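import Mathlib.Algebra.Category.ModuleCat.Abelian
import Mathlib.Algebra.Category.ModuleCat.Colimits
import Mathlib.Algebra.Category.ModuleCat.Monoidal.Closed
import Mathlib.CategoryTheory.Limits.Preserves.Shapes.Kernels
import Mathlib.CategoryTheory.Adjunction.Limits
import Mathlib.CategoryTheory.Abelian.Basic

/-!
# Watts' theorem and the centre of the category of modules
-/

set_option autoImplicit false
universe u
open CategoryTheory CategoryTheory.Limits TensorProduct

namespace Groth.Agent.ModWatts.Basic

variable {A B : Type u} [CommRing A] [CommRing B]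

/-- A natural transformation invertible on a diagram is invertible at a preserved colimit. -/
theorem isIso_app_pt {C D : Type*} [Category C] [Category D] {J : Type*} [Category J] {F G : C ⥤ D}
    (τ : F ⟶ G) {K : J ⥤ C} [PreservesColimit K F] [PreservesColimit K G] {c : Cocone K}
    (hc : IsColimit c) (h : ∀ j, IsIso (τ.app (K.obj j))) : IsIso (τ.app c.pt) := by
  let e : K ⋙ F ≅ K ⋙ G :=
    NatIso.ofComponents (fun j => @asIso _ _ _ _ (τ.app (K.obj j)) (h j)) (by simp)
  let i := IsColimit.coconePointsIsoOfNatIso (isColimitOfPreserves F hc) (isColimitOfPreserves G hc) e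
  have hi : τ.app c.pt = i.hom := by
    refine (isColimitOfPreserves F hc).hom_ext fun j => ?_
    rw [IsColimit.comp_coconePointsIsoOfNatIso_hom]
    simp [e]
  rw [hi]
  infer_instance

/-- A natural transformation of colimit preserving functors on modules is invertible if it is so at `A`. -/
theorem isIso_of_isIso_app_self {D : Type*} [Category D] {F G : ModuleCat.{u} A ⥤ D}
    [PreservesFiniteColimits F] [PreservesFiniteColimits G]
    [∀ J : Type u, PreservesColimitsOfShape (Discrete J) F]
    [∀ J : Type u, PreservesColimitsOfShape (Discrete J) G]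
    (τ : F ⟶ G) [IsIso (τ.app (ModuleCat.of A A))] : IsIso τ := by
  suffices hM : ∀ M, IsIso (τ.app M) from @NatIso.isIso_of_isIso_app _ _ _ _ _ _ τ hM
  have hfree : ∀ J : Type u, IsIso (τ.app (∐ fun _ : J => ModuleCat.of A A)) := fun J =>
    isIso_app_pt τ (coproductIsCoproduct _) fun _ => inferInstanceAs (IsIso (τ.app (ModuleCat.of A A)))
  have hpres : ∀ M : ModuleCat.{u} A, ∃ (J : Type u) (p : (∐ fun _ : J => ModuleCat.of A A) ⟶ M),
      Epi p := fun M =>
    ⟨M, Sigma.desc fun m : M => ModuleCat.ofHom (LinearMap.toSpanSingleton A M m),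
      (ModuleCat.epi_iff_surjective _).mpr fun m =>
        ⟨Sigma.ι (fun _ : M => ModuleCat.of A A) m (1 : A), by
          rw [← ModuleCat.comp_apply, Sigma.ι_desc]
          exact one_smul A m⟩⟩
  intro M
  obtain ⟨J, p, hp⟩ := hpres M
  obtain ⟨J', q, hq⟩ := hpres (kernel p)
  have hc := isCokernelEpiComp (Abelian.epiIsCokernelOfKernel _ (kernelIsKernel p)) q
    (rfl : q ≫ kernel.ι p = q ≫ kernel.ι p)
  refine isIso_app_pt τ hc fun j => ?_
  cases j
  · exact hfree J'
  · exact hfree J

variable (F : ModuleCat.{u} A ⥤ ModuleCat.{u} B) [F.Additive]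

/-- `F(A)` with its two module structures. -/
def WK : Type u := F.obj (ModuleCat.of A A)

instance : AddCommGroup (WK F) := inferInstanceAs (AddCommGroup (F.obj (ModuleCat.of A A)))

instance : Module B (WK F) := inferInstanceAs (Module B (F.obj (ModuleCat.of A A)))

/-- Multiplication by `a` on `F(A)`. -/
def act : A →+* AddMonoid.End (WK F) where
  toFun a := (F.map (ModuleCat.ofHom (a • LinearMap.id : A →ₗ[A] A))).hom.toAddMonoidHom
  map_one' := by
    rw [one_smul]
    erw [F.map_id]
    rfl
  map_mul' a b := by
    have : ModuleCat.ofHom ((a * b) • LinearMap.id : A →ₗ[A] A) =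
        ModuleCat.ofHom (b • LinearMap.id : A →ₗ[A] A) ≫ ModuleCat.ofHom (a • LinearMap.id) := by
      ext; simp [mul_comm]
    rw [this, F.map_comp]
    rfl
  map_zero' := by
    rw [zero_smul]
    erw [F.map_zero]
    rfl
  map_add' a b := by
    rw [add_smul, ModuleCat.ofHom_add, F.map_add]
    rfl

noncomputable instance : Module A (WK F) := Module.compHom (WK F) (act F)

theorem smul_def (a : A) (x : WK F) :
    a • x = F.map (ModuleCat.ofHom (a • LinearMap.id : A →ₗ[A] A)) x := rfl

instance : SMulCommClass A B (WK F) :=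
  ⟨fun a b x => (F.map (ModuleCat.ofHom (a • LinearMap.id : A →ₗ[A] A))).hom.map_smul b x⟩

theorem map_toSpan_smul {M : ModuleCat.{u} A} (m : M) (a : A) (x : WK F) :
    F.map (ModuleCat.ofHom (LinearMap.toSpanSingleton A M (a • m))) x =
      F.map (ModuleCat.ofHom (LinearMap.toSpanSingleton A M m)) (a • x) := by
  have : ModuleCat.ofHom (LinearMap.toSpanSingleton A M (a • m)) =
      ModuleCat.ofHom (a • LinearMap.id : A →ₗ[A] A) ≫
        ModuleCat.ofHom (LinearMap.toSpanSingleton A M m) := by
    ext; simp
  rw [this, F.map_comp]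
  rfl

/-- The comparison `K ⊗ M → F(M)`, additively. -/
noncomputable def tauAdd (M : ModuleCat.{u} A) : WK F ⊗[A] M →+ F.obj M :=
  TensorProduct.liftAddHom
    { toFun := fun x =>
        { toFun := fun m => F.map (ModuleCat.ofHom (LinearMap.toSpanSingleton A M m)) x
          map_zero' := by
            rw [show ModuleCat.ofHom (LinearMap.toSpanSingleton A M 0) = 0 by ext; simp, F.map_zero]
            rfl
          map_add' := fun m m' => by
            rw [show ModuleCat.ofHom (LinearMap.toSpanSingleton A M (m + m')) =
              ModuleCat.ofHom (LinearMap.toSpanSingleton A M m) +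
                ModuleCat.ofHom (LinearMap.toSpanSingleton A M m') by ext; simp, F.map_add]
            rfl }
      map_zero' := by ext m; exact map_zero (F.map _).hom
      map_add' := fun x y => by ext m; exact map_add (F.map _).hom x y }
    fun a x m => (map_toSpan_smul F m a x).symm

/-- The comparison `K ⊗ M → F(M)`. -/
noncomputable def tauLin (M : ModuleCat.{u} A) : WK F ⊗[A] M →ₗ[B] F.obj M where
  toFun := tauAdd F M
  map_add' := map_add _
  map_smul' b z := by
    induction z using TensorProduct.induction_on with
    | zero => simp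
    | tmul x m => exact (F.map (ModuleCat.ofHom (LinearMap.toSpanSingleton A M m))).hom.map_smul b x
    | add z w hz hw =>
      simp only [smul_add, map_add, RingHom.id_apply] at hz hw ⊢
      rw [hz, hw]

@[simp] theorem tauLin_tmul (M : ModuleCat.{u} A) (x : WK F) (m : M) :
    tauLin F M (x ⊗ₜ m) = F.map (ModuleCat.ofHom (LinearMap.toSpanSingleton A M m)) x := rfl

theorem tauLin_natural {M N : ModuleCat.{u} A} (f : M ⟶ N) (z : WK F ⊗[A] M) :
    tauLin F N (LinearMap.lTensor (WK F) f.hom z) = F.map f (tauLin F M z) := by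
  induction z using TensorProduct.induction_on with
  | zero => simp
  | tmul x m =>
    rw [LinearMap.lTensor_tmul, tauLin_tmul, tauLin_tmul]
    rw [show ModuleCat.ofHom (LinearMap.toSpanSingleton A N (f.hom m)) =
      ModuleCat.ofHom (LinearMap.toSpanSingleton A M m) ≫ f by ext; simp, F.map_comp]
    rfl
  | add z w hz hw => simp [hz, hw]

/-- The functor `K ⊗_A -`. -/
noncomputable def tensorFunctor : ModuleCat.{u} A ⥤ ModuleCat.{u} B where
  obj M := ModuleCat.of B (WK F ⊗[A] M)
  map {M N} f := ModuleCat.ofHom
    { toFun := LinearMap.lTensor (WK F) f.hom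
      map_add' := map_add _
      map_smul' := fun b z => by
        induction z using TensorProduct.induction_on with
        | zero => simp
        | tmul x m => simp [smul_tmul']
        | add z w hz hw => simp_all }
  map_id M := by
    ext z
    induction z using TensorProduct.induction_on <;> simp_all
  map_comp f g := by
    ext z
    induction z using TensorProduct.induction_on <;> simp_all

theorem tensorFunctor_hom_ext {M : ModuleCat.{u} A} {Q : ModuleCat.{u} B}
    {f g : (tensorFunctor F).obj M ⟶ Q} (h : ∀ (x : WK F) (m : M), f (x ⊗ₜ[A] m) = g (x ⊗ₜ[A] m)) :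
    f = g := by
  ext z
  induction z using TensorProduct.induction_on with
  | zero => exact (f.hom.map_zero).trans (g.hom.map_zero).symm
  | tmul x m => exact h x m
  | add z w hz hw =>
    exact (f.hom.map_add z w).trans ((congrArg₂ (· + ·) hz hw).trans (g.hom.map_add z w).symm)

/-- After forgetting to abelian groups it is the tensor product of `ModuleCat A`. -/
noncomputable def tensorFunctorForget :
    MonoidalCategory.tensorLeft (ModuleCat.of A (WK F)) ⋙ forget₂ (ModuleCat.{u} A) AddCommGrpCat.{u} ≅
      tensorFunctor F ⋙ forget₂ (ModuleCat.{u} B) AddCommGrpCat.{u} :=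
  NatIso.ofComponents (fun M => Iso.refl _)

theorem preservesColimitsOfShape_tensorFunctor (J : Type u) [SmallCategory J] :
    PreservesColimitsOfShape J (tensorFunctor F) :=
  have : PreservesColimitsOfShape J (tensorFunctor F ⋙ forget₂ (ModuleCat.{u} B) AddCommGrpCat.{u}) :=
    preservesColimitsOfShape_of_natIso (tensorFunctorForget F)
  preservesColimitsOfShape_of_reflects_of_preserves _ (forget₂ (ModuleCat.{u} B) AddCommGrpCat.{u})

/-- The comparison natural transformation. -/
noncomputable def tau : tensorFunctor F ⟶ F where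
  app M := ModuleCat.ofHom (tauLin F M)
  naturality M N f := by
    ext z
    exact tauLin_natural F f z

theorem isIso_tau_self : IsIso ((tau F).app (ModuleCat.of A A)) := by
  have hid : ModuleCat.ofHom (LinearMap.toSpanSingleton A A (1 : A)) = 𝟙 (ModuleCat.of A A) := by
    ext; simp
  have h : ∀ x : WK F, tauLin F (ModuleCat.of A A) (x ⊗ₜ (1 : A)) = x := fun x => by
    rw [tauLin_tmul]
    erw [hid, F.map_id]
    rfl
  refine (ConcreteCategory.isIso_iff_bijective _).mpr ?_
  show Function.Bijective (tauLin F (ModuleCat.of A A))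
  have hgen : ∀ z : WK F ⊗[A] A, ∃ x : WK F, z = x ⊗ₜ (1 : A) := fun z =>
    ⟨TensorProduct.rid A (WK F) z, ((TensorProduct.rid A (WK F)).symm_apply_apply z).symm⟩
  refine ⟨fun z w hzw => ?_, fun x => ⟨_, h x⟩⟩
  obtain ⟨x, rfl⟩ := hgen z
  obtain ⟨y, rfl⟩ := hgen w
  rw [h, h] at hzw
  exact congrArg (fun t : WK F => t ⊗ₜ[A] (1 : A)) hzw

variable [PreservesFiniteColimits F] [∀ J : Type u, PreservesColimitsOfShape (Discrete J) F]

theorem isIso_tau : IsIso (tau F) := by
  have : ∀ J : Type u, PreservesColimitsOfShape (Discrete J) (tensorFunctor F) := fun J =>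
    preservesColimitsOfShape_tensorFunctor F (Discrete J)
  have : ∀ J : Type u, ∀ [SmallCategory J], PreservesColimitsOfShape J (tensorFunctor F) :=
    fun J _ => preservesColimitsOfShape_tensorFunctor F J
  have : PreservesFiniteColimits (tensorFunctor F) :=
    preservesFiniteColimits_of_preservesFiniteColimitsOfSize.{u} _ fun J _ _ => this J
  have := isIso_tau_self F
  exact isIso_of_isIso_app_self (tau F)

/-- Watts: `K ⊗ M ≅ F(M)`. -/
noncomputable def wattsEquiv (M : ModuleCat.{u} A) : (WK F ⊗[A] M) ≃ₗ[B] F.obj M :=
  haveI := isIso_tau F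
  (asIso ((tau F).app M)).toLinearEquiv

theorem wattsEquiv_apply (M : ModuleCat.{u} A) (z : WK F ⊗[A] M) :
    wattsEquiv F M z = tauLin F M z := rfl

end Groth.Agent.ModWatts.Basic
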