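import Mathlib.Algebra.Category.ModuleCat.Abelian
import Mathlib.CategoryTheory.Center.Basic
import Mathlib.CategoryTheory.Preadditive.AdditiveFunctor

set_option autoImplicit false
universe u
open CategoryTheory

namespace Groth.Agent.ModWatts.Center

/-- The endomorphism ring of the identity functor of `A`-modules is `A`. -/
noncomputable def centerEquiv (A : Type u) [CommRing A] : End (𝟭 (ModuleCat.{u} A)) ≃+* A where
  toFun t := t.app (ModuleCat.of A A) (1 : A)
  invFun a := { app := fun M => ModuleCat.ofHom (a • LinearMap.id) }
  left_inv t := by
    apply NatTrans.ext
    funext M
    ext m
    have := ConcreteCategory.congr_hom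
      (t.naturality (ModuleCat.ofHom (LinearMap.toSpanSingleton A M m))) (1 : A)
    simp at this
    exact this.symm
  right_inv a := by simp
  map_mul' s t := by
    have hs := ConcreteCategory.congr_hom (s.naturality
      (ModuleCat.ofHom (LinearMap.toSpanSingleton A A (t.app (ModuleCat.of A A) (1 : A))))) (1 : A)
    simp at hs ⊢
  map_add' s t := rfl

variable {C D : Type*} [Category C] [Category D] [Preadditive C] [Preadditive D]

/-- Transport of central elements along an equivalence. -/
noncomputable def endConj (F : C ≌ D) [F.functor.Additive] :
    End (𝟭 C) ≃+* End (𝟭 D) where
  toFun t := { app := fun Y => F.counitInv.app Y ≫ F.functor.map (t.app (F.inverse.obj Y)) ≫ F.counit.app Y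
               naturality := fun Y Y' g => by
                 have h := congrArg F.functor.map (t.naturality (F.inverse.map g))
                 simp only [Functor.id_map, Functor.map_comp] at h
                 dsimp only [Functor.id_map, Functor.id_obj]
                 have n1 : g ≫ F.counitInv.app Y' = F.counitInv.app Y ≫
                     F.functor.map (F.inverse.map g) := F.counitInv.naturality g
                 have n2 : F.functor.map (F.inverse.map g) ≫ F.counit.app Y' = F.counit.app Y ≫ g :=
                   F.counit.naturality g
                 rw [reassoc_of% n1, reassoc_of% h, n2]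
                 simp }
  invFun t := { app := fun X => F.functor.preimage (t.app (F.functor.obj X))
                naturality := fun X X' g => by
                  apply F.functor.map_injective
                  simpa using t.naturality (F.functor.map g) }
  left_inv t := by
    apply NatTrans.ext
    funext X
    apply F.functor.map_injective
    have h := congrArg F.functor.map (t.naturality (F.unit.app X))
    simp only [Functor.id_map, Functor.map_comp, Functor.id_obj, Functor.comp_obj] at h
    simp only [Functor.map_preimage]
    rw [F.counitInv_app_functor]
    erw [reassoc_of% h, F.functor_unit_comp]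
    exact Category.comp_id _
  right_inv t := by
    apply NatTrans.ext
    funext Y
    have h := t.naturality (F.counit.app Y)
    simp only [Functor.id_map, Functor.comp_obj, Functor.id_obj] at h
    simp [← h]
  map_mul' s t := by
    apply NatTrans.ext
    funext Y
    show _ = (_ ≫ _ ≫ _) ≫ _ ≫ _ ≫ _
    simp
  map_add' s t := by
    apply NatTrans.ext
    funext Y
    show _ = (_ ≫ _ ≫ _) + (_ ≫ _ ≫ _)
    show F.counitInv.app Y ≫ F.functor.map ((s + t).app (F.inverse.obj Y)) ≫ F.counit.app Y = _
    rw [show (s + t).app (F.inverse.obj Y) = s.app (F.inverse.obj Y) + t.app (F.inverse.obj Y) from rfl,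
      F.functor.map_add, Preadditive.add_comp, Preadditive.comp_add]

end Groth.Agent.ModWatts.Center
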